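import Groth.Agent.SiteTors.Basic
import Groth.Agent.CmpTop.Proj
import Groth.Agent.DerCat.AdjHomotopy
import Groth.Agent.DerCat.KInjLib
import Groth.Agent.S0476
import Groth.Agent.SiteRlim.Derived
import Groth.Prelude.Def_WeakSerre
import Mathlib.Algebra.Homology.HomologySequence
import Mathlib.Algebra.Homology.DerivedCategory.KInjective

/-! # Complexes with torsion cohomology sheaves -/

set_option autoImplicit false
set_option linter.all false
set_option backward.isDefEq.respectTransparency false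
set_option backward.defeqAttrib.useBackward true
set_option synthInstance.maxSize 1024

universe w w' u

open CategoryTheory CategoryTheory.Limits Opposite DerivedCategory

namespace Groth.Agent.SiteTors

variable {C : Type u} [SmallCategory C] (J : GrothendieckTopology C)

/-- the torsion subsheaf functor -/
noncomputable def tor : Sheaf J AddCommGrpCat.{u} ⥤ (SiteCmp.torsionSh J).FullSubcategory where
  obj F := ⟨tors F, isTorsion_tors F⟩
  map {F G} φ := ⟨lift (isTorsion_tors F) (incl F ≫ φ)⟩
  map_id F := by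
    apply (SiteCmp.torsionSh J).ι.map_injective
    apply hom_ext
    show lift (isTorsion_tors F) (incl F ≫ 𝟙 F) ≫ incl F = 𝟙 (tors F) ≫ incl F
    rw [lift_incl, Category.comp_id, Category.id_comp]
  map_comp {F G H} φ ψ := by
    apply (SiteCmp.torsionSh J).ι.map_injective
    apply hom_ext
    show lift (isTorsion_tors F) (incl F ≫ φ ≫ ψ) ≫ incl H =
      (lift (isTorsion_tors F) (incl F ≫ φ) ≫ lift (isTorsion_tors G) (incl G ≫ ψ)) ≫ incl H
    rw [lift_incl]
    rw [Category.assoc, lift_incl, ← Category.assoc (lift _ _), lift_incl, Category.assoc]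

/-- the adjunction -/
noncomputable def torAdj : (SiteCmp.torsionSh J).ι ⊣ tor J :=
  Adjunction.mkOfHomEquiv
    { homEquiv := fun M F =>
        { toFun := fun φ => ⟨lift M.property φ⟩
          invFun := fun ψ => ψ.hom ≫ incl F
          left_inv := fun φ => lift_incl M.property _
          right_inv := fun ψ => by
            apply (SiteCmp.torsionSh J).ι.map_injective
            apply hom_ext
            exact lift_incl M.property _ }
      homEquiv_naturality_left_symm := fun {M M' F} f g => by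
        show (f.hom ≫ g.hom) ≫ incl F = f.hom ≫ g.hom ≫ incl F
        exact Category.assoc _ _ _
      homEquiv_naturality_right := fun {M F F'} f g => by
        apply (SiteCmp.torsionSh J).ι.map_injective
        apply hom_ext
        show lift M.property (f ≫ g) ≫ incl F' = (lift M.property f ≫ lift (isTorsion_tors F) (incl F ≫ g)) ≫ incl F'
        rw [lift_incl]
        rw [Category.assoc, lift_incl, ← Category.assoc, lift_incl] }

variable {J}

lemma isZero_of_torsion (H : Sheaf J AddCommGrpCat.{u}) (hH : SiteCmp.torsionSh J H)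
    (hn : ∀ n : ℕ, n ≠ 0 → Mono (n • 𝟙 H)) : IsZero H := by
  rw [IsZero.iff_id_eq_zero]
  ext U s
  show s = 0
  obtain ⟨S, hS, hs⟩ := hH U.unop s
  refine (((Presheaf.isSheaf_iff_isSheaf_forget J H.obj (CategoryTheory.forget AddCommGrpCat.{u})).1 H.property |>
    (isSheaf_iff_isSheaf_of_type _ _).1).isSeparated S hS).ext fun V g hg => ?_
  refine Eq.trans ?_ (map_zero (H.obj.map g.op).hom).symm
  obtain ⟨n, hn0, hns⟩ := isOfFinAddOrder_iff_nsmul_eq_zero.1 (hs g hg)
  haveI := hn n (by omega)
  apply CmpTop.injective_app_of_mono (n • 𝟙 H) (op V)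
  rw [app_nsmul_id, map_zero]
  exact hns

/-- multiplication is invertible on the torsion free quotient of an injective -/
theorem isIso_nsmul_quotient {F G : Sheaf J AddCommGrpCat.{u}} [Injective F] (π : F ⟶ G) [Epi π]
    (i : tors F ⟶ F) (hi : i = incl F) (w : i ≫ π = 0) (hex : (ShortComplex.mk i π w).Exact) (n : ℕ) (hn : n ≠ 0) :
    IsIso (n • 𝟙 G) := by
  subst hi
  haveI : Epi (n • 𝟙 F) := CohAcyc.epi_of_surjective _ fun U x => by
    obtain ⟨y, hy⟩ := surjective_nsmul_of_injective F n hn U x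
    exact ⟨y, (app_nsmul_id F n _ y).trans hy⟩
  haveI : Epi (n • 𝟙 G) := by
    have h : π ≫ (n • 𝟙 G) = (n • 𝟙 F) ≫ π := by simp
    haveI : Epi (π ≫ (n • 𝟙 G)) := by rw [h]; exact epi_comp _ _
    exact epi_of_epi π _
  have : ∀ U, Mono ((n • 𝟙 G : G ⟶ G).hom.app U) := fun U => by
    rw [AddCommGrpCat.mono_iff_injective, injective_iff_map_eq_zero]
    intro x hx
    rw [app_nsmul_id] at hx
    haveI : Sheaf.IsLocallySurjective π :=
      (Sheaf.isLocallySurjective_iff_epi' (A := AddCommGrpCat.{u}) π).2 inferInstance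
    have hsep := ((Presheaf.isSheaf_iff_isSheaf_forget J G.obj (CategoryTheory.forget AddCommGrpCat.{u})).1 G.property |>
      (isSheaf_iff_isSheaf_of_type _ _).1).isSeparated _ (Presheaf.imageSieve_mem J π.hom x)
    refine hsep.ext fun V g hg => ?_
    refine Eq.trans ?_ (map_zero (G.obj.map g.op).hom).symm
    obtain ⟨y, hy⟩ := hg
    change G.obj.map g.op x = 0
    rw [← hy]
    have hny : π.hom.app (op V) (n • y) = 0 := by
      rw [map_nsmul, hy, ← map_nsmul, hx, map_zero]
    obtain ⟨T, hT, hl⟩ := CmpTop.exists_local_lift hex (n • y) hny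
    have hy' : LocTors F V y := by
      refine LocTors.of_cover T hT fun W k hk => ?_
      obtain ⟨t, ht⟩ := hl k hk
      obtain ⟨S, hS, hs⟩ := t.2
      refine ⟨S, hS, fun W' l hl => ?_⟩
      obtain ⟨m, hm, hms⟩ := isOfFinAddOrder_iff_nsmul_eq_zero.1 (hs l hl)
      refine isOfFinAddOrder_iff_nsmul_eq_zero.2 ⟨m * n, Nat.mul_pos hm (Nat.pos_of_ne_zero hn), ?_⟩
      rw [mul_smul, ← map_nsmul (F.obj.map l.op).hom n, ← map_nsmul (F.obj.map k.op).hom n]
      refine Eq.trans ?_ hms
      congr 2
      exact ht.symm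
    exact ConcreteCategory.congr_hom (congr_app (congrArg (fun e => e.hom) w) (op V)) (⟨y, hy'⟩ : torsGrp F V)
  haveI : Mono ((sheafToPresheaf J AddCommGrpCat.{u}).map (n • 𝟙 G)) :=
    @NatTrans.mono_of_mono_app _ _ _ _ _ _ _ this
  haveI : Mono (n • 𝟙 G) := (sheafToPresheaf J AddCommGrpCat.{u}).mono_of_mono_map inferInstance
  exact isIso_of_mono_of_epi _

variable (J) [(SiteCmp.torsionSh J).IsSerreClass]

instance additive_tor : (tor J).Additive := (torAdj J).right_adjoint_additive

lemma torAdj_counit (F : Sheaf J AddCommGrpCat.{u}) : (torAdj J).counit.app F = incl F := by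
  simp only [torAdj, Adjunction.mkOfHomEquiv_counit_app]
  show (𝟙 (tors F)) ≫ incl F = incl F
  exact Category.id_comp _

/-- `ι tor K ⟶ K` -/
noncomputable abbrev inclCx (K : CochainComplex (Sheaf J AddCommGrpCat.{u}) ℤ) :
    ((SiteCmp.torsionSh J).ι.mapHomologicalComplex (ComplexShape.up ℤ)).obj
      (((tor J).mapHomologicalComplex (ComplexShape.up ℤ)).obj K) ⟶ K :=
  DerCat.counitCx (torAdj J) (ComplexShape.up ℤ) K

theorem quasiIso_inclCx (K : CochainComplex (Sheaf J AddCommGrpCat.{u}) ℤ) (hI : ∀ k, Injective (K.X k))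
    (hH : ∀ k, SiteCmp.torsionSh J (K.homology k)) : QuasiIso (inclCx J K) := by
  haveI : ∀ k, Mono ((inclCx J K).f k) := fun k => by
    rw [DerCat.counitCx_f, torAdj_counit]
    have hm : ∀ U, Mono ((incl (K.X k)).hom.app U) := fun U =>
      (AddCommGrpCat.mono_iff_injective _).2 (incl_injective _ U)
    haveI : Mono ((sheafToPresheaf J AddCommGrpCat.{u}).map (incl (K.X k))) :=
      @NatTrans.mono_of_mono_app _ _ _ _ _ _ _ hm
    exact (sheafToPresheaf J AddCommGrpCat.{u}).mono_of_mono_map inferInstance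
  haveI : Mono (inclCx J K) := HomologicalComplex.mono_of_mono_f _ inferInstance
  let S : ShortComplex (CochainComplex (Sheaf J AddCommGrpCat.{u}) ℤ) :=
    ShortComplex.mk (inclCx J K) (cokernel.π (inclCx J K)) (cokernel.condition _)
  have hS : S.ShortExact :=
    ShortComplex.ShortExact.mk' (ShortComplex.exact_cokernel (inclCx J K)) inferInstance inferInstance
  have hiso : ∀ n : ℕ, n ≠ 0 → ∀ k, IsIso (n • 𝟙 (S.X₃.X k)) := fun n hn k => by
    have hk := hS.map_of_exact (HomologicalComplex.eval (Sheaf J AddCommGrpCat.{u}) (ComplexShape.up ℤ) k)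
    haveI := hI k
    haveI : Epi ((cokernel.π (inclCx J K)).f k) := hk.epi_g
    exact isIso_nsmul_quotient (F := K.X k) ((cokernel.π (inclCx J K)).f k) ((inclCx J K).f k)
      (torAdj_counit J (K.X k)) _ hk.exact n hn
  have htor : ∀ k, SiteCmp.torsionSh J (S.X₁.homology k) := fun k => by
    let T := (((tor J).mapHomologicalComplex (ComplexShape.up ℤ)).obj K).sc k
    exact (SiteCmp.torsionSh J).prop_of_iso (T.mapHomologyIso (SiteCmp.torsionSh J).ι).symm T.homology.property
  have hz : ∀ k, IsZero (S.X₃.homology k) := fun k => by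
    refine isZero_of_torsion _ ((SiteCmp.torsionSh J).prop_X₂_of_exact (hS.homology_exact₃ k (k + 1) rfl)
      (hH k) (htor (k + 1))) fun n hn => ?_
    haveI : ∀ k, IsIso ((n • 𝟙 S.X₃ : S.X₃ ⟶ S.X₃).f k) := fun k => by
      rw [HomologicalComplex.nsmul_f_apply, HomologicalComplex.id_f]; exact hiso n hn k
    haveI : IsIso (n • 𝟙 S.X₃) := HomologicalComplex.Hom.isIso_of_components _
    have h : IsIso ((HomologicalComplex.homologyFunctor (Sheaf J AddCommGrpCat.{u}) (ComplexShape.up ℤ) k).map
        (n • 𝟙 S.X₃)) := inferInstance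
    rw [Functor.map_nsmul, CategoryTheory.Functor.map_id] at h
    exact @IsIso.mono_of_iso _ _ _ _ _ h
  refine ⟨fun k => ?_⟩
  rw [quasiIsoAt_iff_isIso_homologyMap]
  haveI : Mono (HomologicalComplex.homologyMap S.f k) :=
    (hS.homology_exact₁ (k - 1) k (by simp)).mono_g ((hz (k - 1)).eq_of_src _ _)
  haveI : Epi (HomologicalComplex.homologyMap S.f k) :=
    (hS.homology_exact₂ k).epi_f ((hz k).eq_of_tgt _ _)
  exact isIso_of_mono_of_epi (HomologicalComplex.homologyMap S.f k)

variable [HasDerivedCategory.{w} (Sheaf J AddCommGrpCat.{u})]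
  [HasDerivedCategory.{w'} (SiteCmp.torsionSh J).FullSubcategory]

lemma exists_inj_res (K : CochainComplex (Sheaf J AddCommGrpCat.{u}) ℤ) :
    ∃ (I : CochainComplex (Sheaf J AddCommGrpCat.{u}) ℤ) (g : K ⟶ I),
      I.IsKInjective ∧ QuasiIso g ∧ ∀ n, Injective (I.X n) := by
  obtain ⟨I, g, h1, h2, -, h4⟩ := Groth.Agent.S0476.result K
  exact ⟨I, g, h1, h2, h4⟩

/-- every complex with torsion cohomology comes from torsion sheaves -/
theorem exists_iso_of_cohIn (X : DerivedCategory (Sheaf J AddCommGrpCat.{u}))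
    (hX : WSerre.cohIn (SiteCmp.torsionSh J) X) :
    ∃ I : CochainComplex (Sheaf J AddCommGrpCat.{u}) ℤ, I.IsKInjective ∧
      QuasiIso (inclCx J I) ∧ Nonempty (Q.obj I ≅ X) := by
  obtain ⟨I, g, hI, hg, hinj⟩ := exists_inj_res J (DerivedCategory.Q.objPreimage X)
  haveI := hg
  let e : Q.obj I ≅ X := (asIso (Q.map g)).symm ≪≫ DerivedCategory.Q.objObjPreimageIso X
  refine ⟨I, hI, quasiIso_inclCx J I hinj fun k => ?_, ⟨e⟩⟩
  exact (SiteCmp.torsionSh J).prop_of_iso
    (((homologyFunctor _ k).mapIso e).symm ≪≫ (homologyFunctorFactors _ k).app I) (hX k)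

lemma cohIn_toDerived (Y : DerivedCategory (SiteCmp.torsionSh J).FullSubcategory) :
    WSerre.cohIn (SiteCmp.torsionSh J) ((WSerre.toDerived (SiteCmp.torsionSh J)).obj Y) := fun k => by
  let L := DerivedCategory.Q.objPreimage Y
  let ι := (SiteCmp.torsionSh J).ι
  let M := (ι.mapHomologicalComplex (ComplexShape.up ℤ)).obj L
  let e₁ : ι.obj (L.sc k).homology ≅ M.homology k := ((L.sc k).mapHomologyIso ι).symm
  let e₂ : M.homology k ≅ (homologyFunctor _ k).obj (Q.obj M) := ((homologyFunctorFactors _ k).app M).symm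
  exact (SiteCmp.torsionSh J).prop_of_iso
    (e₁ ≪≫ e₂ ≪≫
      (homologyFunctor _ k).mapIso ((ι.mapDerivedCategoryFactors.app L).symm ≪≫
        ι.mapDerivedCategory.mapIso (DerivedCategory.Q.objObjPreimageIso Y)))
    (L.sc k).homology.property

theorem bijective_map_tor (X : DerivedCategory (SiteCmp.torsionSh J).FullSubcategory)
    (I : CochainComplex (Sheaf J AddCommGrpCat.{u}) ℤ) [I.IsKInjective] [QuasiIso (inclCx J I)] :
    Function.Bijective (fun φ : X ⟶ Qh.obj ((HomotopyCategory.quotient _ _).obj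
        (((tor J).mapHomologicalComplex (ComplexShape.up ℤ)).obj I)) =>
      (WSerre.toDerived (SiteCmp.torsionSh J)).map φ) := by
  let ι := (SiteCmp.torsionSh J).ι
  let F := WSerre.toDerived (SiteCmp.torsionSh J)
  let tI := ((tor J).mapHomologicalComplex (ComplexShape.up ℤ)).obj I
  haveI : CochainComplex.IsKInjective tI := DerCat.isKInjective_map_rightAdjoint (torAdj J) I
  haveI : (DerivedCategory.Qh (C := (SiteCmp.torsionSh J).FullSubcategory)).EssSurj :=
    Localization.essSurj _ (HomotopyCategory.quasiIso _ (ComplexShape.up ℤ))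
  let L := DerivedCategory.Qh.objPreimage X
  let eX : DerivedCategory.Qh.obj L ≅ X := DerivedCategory.Qh.objObjPreimageIso X
  let adjK := DerCat.adjHomotopy (torAdj J) (ComplexShape.up ℤ)
  let φh := ι.mapDerivedCategoryFactorsh
  let qI := (HomotopyCategory.quotient _ (ComplexShape.up ℤ)).obj I
  let cI : F.obj (Qh.obj ((HomotopyCategory.quotient _ _).obj tI)) ⟶ Qh.obj qI :=
    φh.hom.app _ ≫ Qh.map (adjK.counit.app qI)
  suffices h : Function.Bijective (fun φ : X ⟶ Qh.obj ((HomotopyCategory.quotient _ _).obj tI) => F.map φ ≫ cI) ∧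
      IsIso cI by
    haveI := h.2
    have := (Iso.homToEquiv (asIso cI)).symm.bijective.comp h.1
    convert this using 1
    funext φ
    simp [F]
  constructor
  · refine (Function.Bijective.of_comp_iff _ (Iso.homFromEquiv eX).bijective).1 ?_
    refine (Function.Bijective.of_comp_iff' ((Iso.homFromEquiv (F.mapIso eX)).symm.bijective) _).1 ?_
    refine (Function.Bijective.of_comp_iff _ (CochainComplex.IsKInjective.Qh_map_bijective L tI)).1 ?_
    have h2 : Function.Bijective (fun ψ : L ⟶ (HomotopyCategory.quotient _ _).obj tI =>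
        φh.hom.app L ≫ Qh.map ((adjK.homEquiv L qI).symm ψ)) :=
      (Iso.homFromEquiv (φh.app L).symm).bijective.comp
        ((CochainComplex.IsKInjective.Qh_map_bijective _ I).comp (adjK.homEquiv L qI).symm.bijective)
    refine (congrArg Function.Bijective (funext fun ψ => ?_)).mpr h2
    simp only [Function.comp_apply, Iso.homFromEquiv_apply, Iso.homFromEquiv_symm_apply, Functor.mapIso_hom,
      Functor.map_comp, Category.assoc]
    rw [← Category.assoc, ← Functor.map_comp, eX.hom_inv_id, CategoryTheory.Functor.map_id, Category.id_comp]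
    show F.map (Qh.map ψ) ≫ φh.hom.app _ ≫ Qh.map _ = _
    have hn := φh.hom.naturality ψ
    simp only [Functor.comp_map] at hn
    rw [← Category.assoc, hn, Category.assoc, ← Functor.map_comp, Adjunction.homEquiv_counit]
  · have hq : IsIso (Qh.map (adjK.counit.app qI)) := by
      have hc : IsIso (Qh.map ((HomotopyCategory.quotient _ _).map (inclCx J I))) :=
        (NatIso.isIso_map_iff (DerivedCategory.quotientCompQhIso _) (inclCx J I)).2 inferInstance
      show IsIso (Qh.map ((HomotopyCategory.quotient _ _).map (inclCx J I)))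
      exact hc
    haveI := hq
    exact IsIso.comp_isIso

theorem isIso_of_isIso_map {X Y : DerivedCategory (SiteCmp.torsionSh J).FullSubcategory} (φ : X ⟶ Y)
    [IsIso ((WSerre.toDerived (SiteCmp.torsionSh J)).map φ)] : IsIso φ := by
  let ι := (SiteCmp.torsionSh J).ι
  rw [DerivedCategory.isIso_iff]
  intro k
  haveI h0 : IsIso (ι.mapDerivedCategory.map φ) := ‹IsIso ((WSerre.toDerived (SiteCmp.torsionSh J)).map φ)›
  have h : IsIso (ι.map ((homologyFunctor _ k).map φ)) :=
    (NatIso.isIso_map_iff (SiteRlim.mapDerivedHomologyIso ι k) φ).1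
      (inferInstanceAs (IsIso ((homologyFunctor _ k).map (ι.mapDerivedCategory.map φ))))
  exact isIso_of_reflects_iso _ ι

theorem result_torsion : (WSerre.toDerived (SiteCmp.torsionSh J)).Full ∧
    (WSerre.toDerived (SiteCmp.torsionSh J)).Faithful ∧
      ∀ K : DerivedCategory (Sheaf J AddCommGrpCat.{u}),
        WSerre.cohIn (SiteCmp.torsionSh J) K ↔ (WSerre.toDerived (SiteCmp.torsionSh J)).essImage K := by
  let F := WSerre.toDerived (SiteCmp.torsionSh J)
  have hob : ∀ I : CochainComplex (Sheaf J AddCommGrpCat.{u}) ℤ, QuasiIso (inclCx J I) →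
      Nonempty (F.obj (Qh.obj ((HomotopyCategory.quotient _ _).obj
        (((tor J).mapHomologicalComplex (ComplexShape.up ℤ)).obj I))) ≅ Q.obj I) := fun I hI =>
    ⟨F.mapIso ((DerivedCategory.quotientCompQhIso _).app _) ≪≫
      (SiteCmp.torsionSh J).ι.mapDerivedCategoryFactors.app _ ≪≫ @asIso _ _ _ _ (Q.map (inclCx J I)) inferInstance⟩
  have hbij : ∀ (X Y : DerivedCategory (SiteCmp.torsionSh J).FullSubcategory),
      Function.Bijective (fun φ : X ⟶ Y => F.map φ) := by
    intro X Y
    obtain ⟨I, hI, hq, ⟨e⟩⟩ := exists_iso_of_cohIn J (F.obj Y) (cohIn_toDerived J Y)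
    haveI := hI
    haveI := hq
    let Y' := Qh.obj ((HomotopyCategory.quotient _ (ComplexShape.up ℤ)).obj
      (((tor J).mapHomologicalComplex (ComplexShape.up ℤ)).obj I))
    obtain ⟨e'⟩ := hob I hq
    obtain ⟨φ, hφ⟩ := (bijective_map_tor J Y I).2 (e.inv ≫ e'.inv)
    haveI : IsIso (F.map φ) := by rw [show F.map φ = _ from hφ]; infer_instance
    haveI : IsIso φ := isIso_of_isIso_map J φ
    refine (Function.Bijective.of_comp_iff' (Iso.homToEquiv (F.mapIso (asIso φ))).bijective _).1 ?_
    have h := (bijective_map_tor J X I).comp (Iso.homToEquiv (asIso φ)).bijective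
    convert h using 1
    funext ψ
    simp [F]
  refine ⟨⟨fun {X Y} g => (hbij X Y).2 g⟩, ⟨fun {X Y} a b h => (hbij X Y).1 h⟩, fun K => ⟨fun hK => ?_, fun hK => ?_⟩⟩
  · obtain ⟨I, hI, hq, ⟨e⟩⟩ := exists_iso_of_cohIn J K hK
    exact ⟨_, ⟨(hob I hq).some ≪≫ e⟩⟩
  · obtain ⟨Y, ⟨e⟩⟩ := hK
    exact fun k => (SiteCmp.torsionSh J).prop_of_iso ((homologyFunctor _ k).mapIso e) (cohIn_toDerived J Y k)

end Groth.Agent.SiteTors
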