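import Groth.Prelude.Def_SiteCmp
import Groth.Agent.CohAcyc.Sections
import Mathlib.Algebra.FreeAbelianGroup.Finsupp
import Mathlib.Algebra.Category.Grp.Adjunctions

/-! # The torsion subsheaf of an abelian sheaf -/

set_option autoImplicit false
set_option linter.all false
set_option backward.isDefEq.respectTransparency false
set_option backward.defeqAttrib.useBackward true

universe u

open CategoryTheory CategoryTheory.Limits Opposite

namespace Groth.Agent.SiteTors

variable {C : Type u} [SmallCategory C] {J : GrothendieckTopology C}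


/-- `s` is locally of finite order -/
def LocTors (F : Sheaf J AddCommGrpCat.{u}) (U : C) (s : F.obj.obj (op U)) : Prop :=
  ∃ S ∈ J U, ∀ ⦃V : C⦄ (g : V ⟶ U), S g → IsOfFinAddOrder ((F.obj.map g.op).hom s)

lemma map_finOrder {G H : AddCommGrpCat.{u}} (f : G ⟶ H) {x : G} (hx : IsOfFinAddOrder x) :
    IsOfFinAddOrder (f x) := by
  obtain ⟨n, hn, hnx⟩ := isOfFinAddOrder_iff_nsmul_eq_zero.1 hx
  exact isOfFinAddOrder_iff_nsmul_eq_zero.2 ⟨n, hn, by rw [← map_nsmul, hnx, map_zero]⟩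

lemma LocTors.map {F : Sheaf J AddCommGrpCat.{u}} {U V : C} {s : F.obj.obj (op U)} (h : LocTors F U s) (g : V ⟶ U) :
    LocTors F V (F.obj.map g.op s) := by
  obtain ⟨S, hS, hs⟩ := h
  refine ⟨S.pullback g, J.pullback_stable g hS, fun W k hk => ?_⟩
  have := hs (k ≫ g) hk
  rw [op_comp, F.obj.map_comp] at this
  exact this

lemma LocTors.hom {F G : Sheaf J AddCommGrpCat.{u}} (φ : F ⟶ G) {U : C} {s : F.obj.obj (op U)} (h : LocTors F U s) :
    LocTors G U (φ.hom.app (op U) s) := by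
  obtain ⟨S, hS, hs⟩ := h
  refine ⟨S, hS, fun W k hk => ?_⟩
  have := map_finOrder (φ.hom.app (op W)) (hs k hk)
  rw [show φ.hom.app (op W) ((F.obj.map k.op).hom s) = G.obj.map k.op (φ.hom.app (op U) s) from
    ConcreteCategory.congr_hom (φ.hom.naturality k.op) s] at this
  exact this

lemma LocTors.of_cover {F : Sheaf J AddCommGrpCat.{u}} {U : C} {s : F.obj.obj (op U)} (S : Sieve U) (hS : S ∈ J U)
    (h : ∀ ⦃V : C⦄ (g : V ⟶ U), S g → LocTors F V (F.obj.map g.op s)) : LocTors F U s := by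
  choose T hT hTs using h
  refine ⟨Sieve.bind S.arrows fun V g hg => T g hg, J.bind_covering hS fun V g hg => hT g hg, ?_⟩
  rintro W k ⟨V, a, g, hg, ha, rfl⟩
  rw [op_comp, F.obj.map_comp]
  exact hTs g hg a ha

/-- torsion sections -/
def torsGrp (F : Sheaf J AddCommGrpCat.{u}) (U : C) : AddSubgroup (F.obj.obj (op U)) where
  carrier := {s | LocTors F U s}
  zero_mem' := ⟨⊤, J.top_mem U, fun V g _ => by rw [map_zero]; exact IsOfFinAddOrder.zero⟩
  add_mem' := by
    rintro a b ⟨S, hS, ha⟩ ⟨T, hT, hb⟩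
    refine ⟨S ⊓ T, J.intersection_covering hS hT, fun V g hg => ?_⟩
    rw [map_add]
    exact (ha g hg.1).add (hb g hg.2)
  neg_mem' := by
    rintro a ⟨S, hS, ha⟩
    refine ⟨S, hS, fun V g hg => ?_⟩
    rw [map_neg]
    exact (ha g hg).neg

/-- the torsion presheaf -/
def torsPre (F : Sheaf J AddCommGrpCat.{u}) : Cᵒᵖ ⥤ AddCommGrpCat.{u} where
  obj U := AddCommGrpCat.of (torsGrp F U.unop)
  map {U V} g := AddCommGrpCat.ofHom
    (((F.obj.map g).hom.comp (torsGrp F U.unop).subtype).codRestrict (torsGrp F V.unop) fun s => s.2.map g.unop)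
  map_id U := by
    ext s
    exact congrArg (fun t => (ConcreteCategory.hom t) s.1) (F.obj.map_id U)
  map_comp {U V W} f g := by
    ext s
    exact congrArg (fun t => (ConcreteCategory.hom t) s.1) (F.obj.map_comp f g)

theorem isSheaf_torsPre (F : Sheaf J AddCommGrpCat.{u}) : Presheaf.IsSheaf J (torsPre F) := by
  rw [Presheaf.isSheaf_iff_isSheaf_forget J _ (CategoryTheory.forget AddCommGrpCat.{u}), isSheaf_iff_isSheaf_of_type]
  have hF := (isSheaf_iff_isSheaf_of_type _ _).1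
    ((Presheaf.isSheaf_iff_isSheaf_forget J F.obj (CategoryTheory.forget AddCommGrpCat.{u})).1 F.property)
  intro U S hS x hx
  let x' : Presieve.FamilyOfElements (F.obj ⋙ CategoryTheory.forget AddCommGrpCat.{u}) S.arrows :=
    fun V g hg => (x g hg).1
  have hx' : x'.Compatible := fun Y₁ Y₂ Z g₁ g₂ f₁ f₂ h₁ h₂ e => congrArg Subtype.val (hx g₁ g₂ h₁ h₂ e)
  obtain ⟨t, ht, hu⟩ := hF S hS x' hx'
  refine ⟨⟨t, LocTors.of_cover S hS fun V g hg => ?_⟩, fun V g hg => Subtype.ext (ht g hg), fun y hy => ?_⟩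
  · have := (x g hg).2
    rw [show F.obj.map g.op t = (x g hg).1 from ht g hg]
    exact this
  · exact Subtype.ext (hu y.1 fun V g hg => congrArg Subtype.val (hy g hg))

/-- the torsion subsheaf -/
def tors (F : Sheaf J AddCommGrpCat.{u}) : Sheaf J AddCommGrpCat.{u} := ⟨torsPre F, isSheaf_torsPre F⟩

theorem isTorsion_tors (F : Sheaf J AddCommGrpCat.{u}) : SiteCmp.torsionSh J (tors F) := fun U s => by
  obtain ⟨S, hS, hs⟩ := s.2
  refine ⟨S, hS, fun V g hg => ?_⟩
  obtain ⟨n, hn, hns⟩ := isOfFinAddOrder_iff_nsmul_eq_zero.1 (hs g hg)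
  exact isOfFinAddOrder_iff_nsmul_eq_zero.2 ⟨n, hn, Subtype.ext hns⟩

/-- the inclusion -/
def incl (F : Sheaf J AddCommGrpCat.{u}) : tors F ⟶ F :=
  ⟨{ app := fun U => AddCommGrpCat.ofHom (torsGrp F U.unop).subtype }⟩

lemma incl_injective (F : Sheaf J AddCommGrpCat.{u}) (U : Cᵒᵖ) : Function.Injective ((incl F).hom.app U) := Subtype.val_injective

/-- torsion sheaves map to the torsion subsheaf -/
def lift {M F : Sheaf J AddCommGrpCat.{u}} (hM : SiteCmp.torsionSh J M) (φ : M ⟶ F) : M ⟶ tors F :=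
  ⟨{ app := fun U => AddCommGrpCat.ofHom ((φ.hom.app U).hom.codRestrict (torsGrp F U.unop)
        fun s => LocTors.hom φ (hM U.unop s))
     naturality := fun U V g => by
      ext s
      exact Subtype.ext (ConcreteCategory.congr_hom (φ.hom.naturality g) s) }⟩

lemma lift_incl {M F : Sheaf J AddCommGrpCat.{u}} (hM : SiteCmp.torsionSh J M) (φ : M ⟶ F) : lift hM φ ≫ incl F = φ := by
  ext U s
  rfl

lemma hom_ext {M F : Sheaf J AddCommGrpCat.{u}} (a b : M ⟶ tors F) (h : a ≫ incl F = b ≫ incl F) : a = b := by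
  ext U s
  exact Subtype.ext (congrArg (fun t => t.hom.app U s) h)

lemma app_nsmul_id (G : Sheaf J AddCommGrpCat.{u}) (n : ℕ) (U : Cᵒᵖ) (x : G.obj.obj U) : (n • 𝟙 G : G ⟶ G).hom.app U x = n • x := by
  induction n with
  | zero => simp
  | succ n ih =>
    rw [succ_nsmul, succ_nsmul]
    show (n • 𝟙 G : G ⟶ G).hom.app U x + x = _
    rw [ih]

theorem mono_nsmul_free (U : C) (n : ℕ) (hn : n ≠ 0) :
    Mono (n • 𝟙 (CohCx.freeSheaf J U)) := by
  let P : Cᵒᵖ ⥤ AddCommGrpCat.{u} := yoneda.obj U ⋙ AddCommGrpCat.free.{u}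
  have happ : ∀ (k : ℕ) (V : Cᵒᵖ) (x : P.obj V), (k • 𝟙 P : P ⟶ P).app V x = k • x := by
    intro k V x
    induction k with
    | zero => simp
    | succ k ih =>
      rw [succ_nsmul, succ_nsmul]
      show (k • 𝟙 P : P ⟶ P).app V x + x = _
      rw [ih]
  haveI : ∀ V, Mono ((n • 𝟙 P : P ⟶ P).app V) := fun V => by
    rw [AddCommGrpCat.mono_iff_injective]
    intro x y hxy
    rw [happ, happ] at hxy
    let e : P.obj V →+ ((V.unop ⟶ U) →₀ ℤ) := FreeAbelianGroup.toFinsupp
    have hinj : Function.Injective e := Function.LeftInverse.injective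
      (g := Finsupp.toFreeAbelianGroup) (fun z => Finsupp.toFreeAbelianGroup_toFinsupp z)
    have h2 : n • e x = n • e y := by rw [← map_nsmul, ← map_nsmul, hxy]
    refine hinj (Finsupp.ext fun a => ?_)
    have h3 := congrArg (fun q : (V.unop ⟶ U) →₀ ℤ => q a) h2
    simp only [Finsupp.smul_apply, nsmul_eq_mul] at h3
    exact mul_left_cancel₀ (Int.natCast_ne_zero.2 hn) h3
  haveI : Mono (n • 𝟙 P : P ⟶ P) := NatTrans.mono_of_mono_app _
  haveI : (presheafToSheaf J AddCommGrpCat.{u}).Additive :=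
    (sheafificationAdjunction J AddCommGrpCat.{u}).left_adjoint_additive
  have h := (presheafToSheaf J AddCommGrpCat.{u}).map_mono (n • 𝟙 P : P ⟶ P)
  rw [Functor.map_nsmul, CategoryTheory.Functor.map_id] at h
  exact h

theorem surjective_nsmul_of_injective (F : Sheaf J AddCommGrpCat.{u}) [Injective F] (n : ℕ) (hn : n ≠ 0) (U : C)
    (x : F.obj.obj (op U)) : ∃ y : F.obj.obj (op U), n • y = x := by
  haveI := mono_nsmul_free (J := J) U n hn
  let ψ := Injective.factorThru ((CohAcyc.secEquiv' U F).symm x) (n • 𝟙 (CohCx.freeSheaf J U))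
  refine ⟨CohAcyc.secEquiv' U F ψ, ?_⟩
  have h := congrArg (CohAcyc.secEquiv' U F)
    (Injective.comp_factorThru ((CohAcyc.secEquiv' U F).symm x) (n • 𝟙 (CohCx.freeSheaf J U)))
  rw [Equiv.apply_symm_apply, Preadditive.nsmul_comp, Category.id_comp] at h
  have h2 := CohAcyc.secEquiv'_comp U ψ (n • 𝟙 F)
  rw [Preadditive.comp_nsmul, Category.comp_id, app_nsmul_id] at h2
  exact h2.symm.trans h

end Groth.Agent.SiteTors
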